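import Groth.Agent.DomHom.Main
import Groth.Agent.H23.RedSub
import Groth.Agent.EtFound.Descent
import Groth.Agent.FpqcDescLib.Group
import Groth.Agent.GrpSchLib.FieldReduced
import Groth.Agent.GrpSchLib.MonoSubgroup
import Groth.Agent.GrpSchLib.AffineHopf
import Groth.Agent.RedImage.AffineTarget
import Groth.Agent.S0593
import Groth.Agent.GenTransporter.Spread
import Mathlib.FieldTheory.IsAlgClosed.AlgebraicClosure

/-!
# Quasi-compact monomorphisms of group schemes over a field into affine ones are closed immersions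
-/

universe u

open CategoryTheory Limits AlgebraicGeometry MonoidalCategory CartesianMonoidalCategory MonObj GrpObj
  TopologicalSpace
open scoped CategoryTheory.Obj

set_option autoImplicit false

namespace Groth.Agent.DomHom

variable {k : Type u} [Field k]

theorem universallyOpen_hom (W : Over (Spec (CommRingCat.of k))) : UniversallyOpen W.hom := inferInstance

theorem denseRange_whiskerRight {X Y Z : Over (Spec (CommRingCat.of k))} (f : X ⟶ Y) (hf : DenseRange f.left) :
    DenseRange (f ▷ Z).left := by
  haveI : UniversallyOpen (fst Y Z).left :=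
    MorphismProperty.pullback_fst (P := @UniversallyOpen) Y.hom Z.hom (universallyOpen_hom Z)
  have hsq : IsPullback (f ▷ Z).left (fst X Z).left (fst Y Z).left f.left :=
    (FpqcDescLib.isPullback_whiskerRight f Z).map (Over.forget _)
  have h : Set.range (f ▷ Z).left = (fst Y Z).left ⁻¹' Set.range f.left := by
    refine Set.Subset.antisymm ?_ fun y ⟨x, hx⟩ => ?_
    · rintro _ ⟨p, rfl⟩
      exact ⟨(fst X Z).left p, by rw [← Scheme.Hom.comp_apply, ← hsq.w, Scheme.Hom.comp_apply]⟩
    · obtain ⟨p, hp, -⟩ := Scheme.exists_preimage_of_isPullback hsq y x hx.symm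
      exact ⟨p, hp⟩
  rw [DenseRange, h]
  exact Dense.preimage hf (fst Y Z).left.isOpenMap

theorem denseRange_whiskerLeft {X Y Z : Over (Spec (CommRingCat.of k))} (f : X ⟶ Y) (hf : DenseRange f.left) :
    DenseRange (Z ◁ f).left := by
  haveI : UniversallyOpen (snd Z Y).left :=
    MorphismProperty.pullback_snd (P := @UniversallyOpen) Z.hom Y.hom (universallyOpen_hom Z)
  have hsq : IsPullback (Z ◁ f).left (snd Z X).left (snd Z Y).left f.left :=
    (FpqcDescLib.isPullback_whiskerLeft f Z).map (Over.forget _)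
  have h : Set.range (Z ◁ f).left = (snd Z Y).left ⁻¹' Set.range f.left := by
    refine Set.Subset.antisymm ?_ fun y ⟨x, hx⟩ => ?_
    · rintro _ ⟨p, rfl⟩
      exact ⟨(snd Z X).left p, by rw [← Scheme.Hom.comp_apply, ← hsq.w, Scheme.Hom.comp_apply]⟩
    · obtain ⟨p, hp, -⟩ := Scheme.exists_preimage_of_isPullback hsq y x hx.symm
      exact ⟨p, hp⟩
  rw [DenseRange, h]
  exact Dense.preimage hf (snd Z Y).left.isOpenMap

/-- The reduced closure of the image of a homomorphism over a perfect field is a subgroup. -/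
theorem exists_redClosure [PerfectField k] {G H : Over (Spec (CommRingCat.of k))} [GrpObj G] [GrpObj H]
    (u : G ⟶ H) [IsMonHom u] :
    ∃ (C : Over (Spec (CommRingCat.of k))) (_ : GrpObj C) (c : C ⟶ H), IsMonHom c ∧ IsClosedImmersion c.left ∧
      IsReduced C.left ∧ Set.range c.left = closure (Set.range u.left) := by
  let I := Scheme.IdealSheafData.vanishingIdeal (⟨closure (Set.range u.left), isClosed_closure⟩ : Closeds H.left)
  let C : Over (Spec (CommRingCat.of k)) := Over.mk (I.subschemeι ≫ H.hom)
  let c : C ⟶ H := Over.homMk I.subschemeι rfl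
  haveI : IsReduced C.left := H23.RedSub.isReduced_vanishingIdeal _
  haveI hc : IsClosedImmersion c.left := inferInstanceAs (IsClosedImmersion I.subschemeι)
  have hr : Set.range c.left = closure (Set.range u.left) := H23.RedSub.range_vanishingIdeal _
  haveI : Mono c := (Over.forget _).mono_of_mono_map (inferInstanceAs (Mono c.left))
  have hl : ∀ (T : Over (Spec (CommRingCat.of k))) (_ : IsReduced T.left) (f : T ⟶ H),
      Set.range f.left ⊆ closure (Set.range u.left) → ∃ g : T ⟶ C, g ≫ c = f := by
    intro T _ f hf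
    obtain ⟨g, hg⟩ := H23.RedSub.exists_lift_closed f.left c.left (hr.symm ▸ hf)
    exact ⟨Over.homMk g (by rw [← Over.w c, reassoc_of% hg, Over.w f]), Over.OverMorphism.ext hg⟩
  -- the reduced source
  let R : Over (Spec (CommRingCat.of k)) := Over.mk (G.left.nilradical.subschemeι ≫ G.hom)
  let r : R ⟶ G := Over.homMk G.left.nilradical.subschemeι rfl
  haveI : IsReduced R.left := H23.RedSub.isReduced_nilradical G.left
  have hrs : Set.range r.left = Set.univ := by
    show Set.range G.left.nilradical.subschemeι = Set.univ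
    rw [Scheme.IdealSheafData.range_subschemeι, ← Scheme.IdealSheafData.vanishingIdeal_top]
    simp [Scheme.IdealSheafData.coe_support_vanishingIdeal]
  have hru : Set.range (r ≫ u).left = Set.range u.left := by
    rw [Over.comp_left, Scheme.Hom.comp_base, TopCat.coe_comp, Set.range_comp, hrs, Set.image_univ]
  obtain ⟨p, hp⟩ := hl R inferInstance (r ≫ u) (hru.le.trans subset_closure)
  have hpd : DenseRange p.left := by
    intro x
    rw [c.left.isClosedEmbedding.isEmbedding.closure_eq_preimage_closure_image, Set.mem_preimage, ← Set.range_comp,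
      ← TopCat.coe_comp, ← Scheme.Hom.comp_base, ← Over.comp_left, hp, hru, ← hr]
    exact ⟨x, rfl⟩
  have hpp : DenseRange (p ⊗ₘ p).left := by
    rw [MonoidalCategory.tensorHom_def, Over.comp_left, Scheme.Hom.comp_base, TopCat.coe_comp]
    exact (denseRange_whiskerLeft p hpd).comp (denseRange_whiskerRight p hpd) (C ◁ p).left.continuous
  haveI : IsReduced (C ⊗ C).left := GrpSchLib.isReduced_pullback_of_perfectField C.hom C.hom
  haveI : IsReduced (𝟙_ (Over (Spec (CommRingCat.of k)))).left := inferInstanceAs (IsReduced (Spec (CommRingCat.of k)))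
  obtain ⟨e, he⟩ := hl _ inferInstance η[H] (by
    rintro _ ⟨s, rfl⟩
    refine subset_closure ⟨η[G].left s, ?_⟩
    rw [← IsMonHom.one_hom u, Over.comp_left, Scheme.Hom.comp_apply])
  have hclos : ∀ {X Y : Over (Spec (CommRingCat.of k))} (f : X ⟶ Y) (g : Y ⟶ H), DenseRange f.left →
      Set.range (f ≫ g).left ⊆ closure (Set.range u.left) → Set.range g.left ⊆ closure (Set.range u.left) := by
    intro X Y f g hf h
    refine (g.left.continuous.range_subset_closure_image_dense hf).trans (closure_minimal ?_ isClosed_closure)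
    rintro _ ⟨_, ⟨x, rfl⟩, rfl⟩
    exact h ⟨x, rfl⟩
  obtain ⟨m, hm⟩ := hl _ inferInstance ((fst C C ≫ c) * (snd C C ≫ c)) (hclos (p ⊗ₘ p) _ hpp (by
    have h : (p ⊗ₘ p) ≫ ((fst C C ≫ c) * (snd C C ≫ c)) = ((fst R R ≫ r) * (snd R R ≫ r)) ≫ u := by
      simp [MonObj.comp_mul, MonObj.mul_comp, hp]
    rw [h]
    rintro _ ⟨x, rfl⟩
    exact subset_closure ⟨_, rfl⟩))
  obtain ⟨v, hv⟩ := hl _ inferInstance c⁻¹ (hclos p _ hpd (by
    have h : p ≫ c⁻¹ = r⁻¹ ≫ u := by simp [GrpObj.comp_inv, GrpObj.inv_comp, hp]
    rw [h]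
    rintro _ ⟨x, rfl⟩
    exact subset_closure ⟨_, rfl⟩))
  obtain ⟨str, hi⟩ := GrpSchLib.exists_grpObj_of_mono c e he m hm v hv
  exact ⟨C, str, c, hi, hc, inferInstance, hr⟩

/-- A flat surjective quasi-compact monomorphism is an isomorphism. -/
theorem isIso_of_flat_surjective_mono {X Y : Scheme.{u}} (f : X ⟶ Y) [Flat f] [Surjective f] [QuasiCompact f]
    [Mono f] : IsIso f :=
  MorphismProperty.of_pullback_snd_of_descendsAlong (P := MorphismProperty.isomorphisms Scheme.{u})
    (Q := @Surjective ⊓ @Flat ⊓ @QuasiCompact) (f := f) (g := f) ⟨⟨‹_›, ‹_›⟩, ‹_›⟩ (inferInstanceAs (IsIso _))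

/-- A homomorphism of affine groups over a field which is a monomorphism is a closed immersion. -/
theorem isClosedImmersion_affine_mono {G H : Over (Spec (CommRingCat.of k))} [GrpObj G] [GrpObj H]
    [IsAffine G.left] [IsAffine H.left] (u : G ⟶ H) [IsMonHom u] [Mono u] : IsClosedImmersion u.left := by
  obtain ⟨A, _, _, ⟨eA⟩⟩ := GrpSchLib.AffineHopf.exists_hopf G
  obtain ⟨B, _, _, ⟨eB⟩⟩ := GrpSchLib.AffineHopf.exists_hopf H
  let a : GrpSchLib.AffineHopf.sp k A ≅ G := (Grp.forget _).mapIso eA
  let b : GrpSchLib.AffineHopf.sp k B ≅ H := (Grp.forget _).mapIso eB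
  haveI : IsMonHom a.hom := eA.hom.hom.isMonHom_hom
  haveI : IsMonHom b.inv := eB.inv.hom.isMonHom_hom
  have ha : IsIso a.hom.left := ((Over.forget _).mapIso a).isIso_hom
  have hb : IsIso b.inv.left := ((Over.forget _).mapIso b).isIso_inv
  obtain ⟨φ, hφ⟩ := GrpSchLib.AffineHopf.exists_bialgHom (a.hom ≫ u ≫ b.inv)
  let F := Spec.map (CommRingCat.ofHom (φ : B →ₐ[k] A).toRingHom)
  have hF : F = a.hom.left ≫ u.left ≫ b.inv.left := (congrArg (fun q => q.left) hφ).symm
  haveI : Mono u.left := (Over.forget _).map_mono u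
  haveI : Mono F := by
    rw [hF]
    exact mono_comp' (@IsIso.mono_of_iso _ _ _ _ a.hom.left ha)
      (mono_comp' inferInstance (@IsIso.mono_of_iso _ _ _ _ b.inv.left hb))
  let A' := (φ : B →ₐ[k] A).range
  have h := Groth.Agent.S4103.result k A _ (RedImage.isHopfSubalgebra_range φ)
  have h1 : (algebraMap A' A).FaithfullyFlat := RingHom.faithfullyFlat_algebraMap_iff.mpr h
  let P := Spec.map (CommRingCat.ofHom (algebraMap A' A))
  let J := Spec.map (CommRingCat.ofHom (φ : B →ₐ[k] A).rangeRestrict.toRingHom)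
  have hPJ : P ≫ J = F := by
    rw [← Spec.map_comp]; rfl
  haveI : IsClosedImmersion J :=
    IsClosedImmersion.spec_of_surjective _ (φ : B →ₐ[k] A).rangeRestrict_surjective
  haveI : Mono P := @mono_of_mono _ _ _ _ _ P J (hPJ ▸ ‹Mono F›)
  haveI : Flat P := (HasRingHomProperty.Spec_iff (P := @Flat)).mpr h1.flat
  haveI : Surjective P := ⟨(RingHom.FaithfullyFlat.iff_flat_and_comap_surjective.mp h1).2⟩
  haveI : IsIso P := isIso_of_flat_surjective_mono P
  haveI : IsClosedImmersion F := hPJ ▸ inferInstance
  have h2 : IsClosedImmersion (a.hom.left ≫ u.left ≫ b.inv.left) := hF ▸ this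
  exact (@MorphismProperty.cancel_right_of_respectsIso _ _ @IsClosedImmersion _ _ _ _ u.left b.inv.left hb).mp
    ((@MorphismProperty.cancel_left_of_respectsIso _ _ @IsClosedImmersion _ _ _ _ a.hom.left _ ha).mp h2)

theorem isClosedImmersion_perfect [PerfectField k] {G H : Over (Spec (CommRingCat.of k))} [GrpObj G] [GrpObj H]
    [IsAffine H.left] (u : G ⟶ H) [IsMonHom u] [Mono u] [QuasiCompact u.left] : IsClosedImmersion u.left := by
  obtain ⟨R, _, r, hr, hrc, hrr, hrange⟩ := exists_redClosure (𝟙 G)
  obtain ⟨C, _, c, hc, hcc, hcr, hcrange⟩ := exists_redClosure u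
  haveI := hrr
  haveI := hrc
  haveI := hcc
  haveI := hcr
  haveI := hr
  haveI := hc
  haveI : Surjective r.left := ⟨fun x => by
    have : x ∈ Set.range r.left := by rw [hrange]; exact subset_closure ⟨x, rfl⟩
    exact this⟩
  have hru : Set.range (r ≫ u).left = Set.range u.left := by
    rw [Over.comp_left, Scheme.Hom.comp_base, TopCat.coe_comp, Set.range_comp, r.left.surjective.range_eq,
      Set.image_univ]
  obtain ⟨g, hg⟩ := H23.RedSub.exists_lift_closed (r ≫ u).left c.left
    (by rw [hru, hcrange]; exact subset_closure)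
  let q : R ⟶ C := Over.homMk g (by rw [← Over.w c, reassoc_of% hg]; exact Over.w (r ≫ u))
  have hq : q ≫ c = r ≫ u := Over.OverMorphism.ext hg
  haveI : Mono c := (Over.forget _).mono_of_mono_map (inferInstanceAs (Mono c.left))
  haveI : Mono r := (Over.forget _).mono_of_mono_map (inferInstanceAs (Mono r.left))
  haveI : IsMonHom q :=
    { one_hom := by rw [← cancel_mono c, Category.assoc, hq, ← Category.assoc, IsMonHom.one_hom r,
        IsMonHom.one_hom u, IsMonHom.one_hom c]
      mul_hom := by
        rw [← cancel_mono c, Category.assoc, hq, ← Category.assoc, IsMonHom.mul_hom r, Category.assoc,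
          IsMonHom.mul_hom u, Category.assoc, IsMonHom.mul_hom c,
          MonoidalCategory.tensorHom_comp_tensorHom_assoc, MonoidalCategory.tensorHom_comp_tensorHom_assoc, hq] }
  haveI : Mono (q ≫ c) := hq ▸ mono_comp r u
  haveI : Mono q := mono_of_mono q c
  haveI : Mono q.left := (Over.forget _).map_mono q
  haveI : QuasiCompact q.left := by
    haveI : QuasiCompact (q.left ≫ c.left) := by
      rw [← Over.comp_left, hq, Over.comp_left]; infer_instance
    exact QuasiCompact.of_comp q.left c.left
  have hdense : DenseRange q.left := by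
    intro x
    rw [c.left.isClosedEmbedding.isEmbedding.closure_eq_preimage_closure_image, Set.mem_preimage, ← Set.range_comp,
      ← TopCat.coe_comp, ← Scheme.Hom.comp_base, ← Over.comp_left, hq, hru, ← hcrange]
    exact ⟨x, rfl⟩
  haveI := surjective_of_denseRange q hdense
  haveI := flat_of_denseRange q hdense
  haveI : IsIso q.left := isIso_of_flat_surjective_mono q.left
  haveI : IsAffine C.left := isAffine_of_isAffineHom c.left
  haveI : IsAffine R.left := .of_isIso q.left
  haveI : IsAffine G.left := Groth.Agent.S0593.result _ _ r.left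
  exact isClosedImmersion_affine_mono u

theorem isClosedImmersion_of_mono {G H : Over (Spec (CommRingCat.of k))} [GrpObj G] [GrpObj H]
    [IsAffine H.left] (u : G ⟶ H) [IsMonHom u] [Mono u] [QuasiCompact u.left] : IsClosedImmersion u.left := by
  let ρ : Spec (CommRingCat.of (AlgebraicClosure k)) ⟶ Spec (CommRingCat.of k) :=
    Spec.map (CommRingCat.ofHom (algebraMap k (AlgebraicClosure k)))
  haveI : IsAffine ((Over.pullback ρ).obj H).left :=
    haveI : IsAffineHom (pullback.fst H.hom ρ) := MorphismProperty.pullback_fst (P := @IsAffineHom) _ _ inferInstance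
    isAffine_of_isAffineHom (pullback.fst H.hom ρ)
  have hsq := GenTransporter.isPullback_map_left u ρ
  haveI : QuasiCompact ((Over.pullback ρ).map u).left :=
    MorphismProperty.of_isPullback hsq ‹QuasiCompact u.left›
  have h := isClosedImmersion_perfect ((Over.pullback ρ).map u)
  haveI := EtFound.fpqc_isClosedImmersion.{u}
  haveI : Flat ρ := inferInstance
  haveI : Surjective ρ := inferInstance
  exact MorphismProperty.of_isPullback_of_descendsAlong (P := @IsClosedImmersion)
    (Q := @Surjective ⊓ @Flat ⊓ @QuasiCompact) hsq.flip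
    ⟨⟨MorphismProperty.pullback_fst (P := @Surjective) _ _ ‹_›,
      MorphismProperty.pullback_fst (P := @Flat) _ _ ‹_›⟩,
      MorphismProperty.pullback_fst (P := @QuasiCompact) _ _ inferInstance⟩ h

end Groth.Agent.DomHom
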