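import Groth.Agent.DomHom.MaxPts
import Groth.Agent.GrpSchLib.RankOneBig
import Mathlib.AlgebraicGeometry.Morphisms.FlatMono
import Mathlib.CategoryTheory.Monoidal.Cartesian.Grp
import Mathlib.CategoryTheory.Monoidal.Cartesian.Over
import Mathlib.Tactic.Group

/-!
# Quasi-compact dominant homomorphisms of group schemes over a field
-/

universe u

open CategoryTheory Limits AlgebraicGeometry MonoidalCategory CartesianMonoidalCategory MonObj GrpObj

set_option autoImplicit false

namespace Groth.Agent.DomHom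

variable {k : Type u} [Field k]

theorem flat_over_field (W : Over (Spec (CommRingCat.of k))) : Flat W.hom := inferInstance

/-- Over an extension field every point is a product of two maximal points. -/
theorem exists_factor (H : Over (Spec (CommRingCat.of k))) [GrpObj H] (h : H.left) :
    ∃ (K : Type u) (_ : Field K) (q : Spec (CommRingCat.of K) ⟶ Spec (CommRingCat.of k))
      (a b : Over.mk q ⟶ H),
      (∀ z, IsMaxPt (a.left z)) ∧ (∀ z, IsMaxPt (b.left z)) ∧ ∀ z, (a * b).left z = h := by
  let o : Over (Spec (CommRingCat.of k)) := Over.mk (H.left.fromSpecResidueField h ≫ H.hom)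
  let hp : o ⟶ H := Over.homMk (H.left.fromSpecResidueField h) rfl
  let W := o ⊗ H
  haveI : Nonempty ↥W.left := by
    let s : o ⟶ W := lift (𝟙 o) (toUnit o ≫ η[H])
    haveI : Nonempty ↥o.left := inferInstanceAs (Nonempty ↥(Spec (H.left.residueField h)))
    exact ⟨s.left (Classical.arbitrary _)⟩
  let θ : W ⟶ W := lift (fst o H) ((snd o H)⁻¹ * (fst o H ≫ hp))
  let θ' : W ⟶ W := lift (fst o H) ((fst o H ≫ hp) * (snd o H)⁻¹)
  have h1 : θ ≫ θ' = 𝟙 W := CartesianMonoidalCategory.hom_ext _ _ (by simp [θ, θ', W])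
    (by simp [θ, θ', W, MonObj.comp_mul, GrpObj.comp_inv])
  have h2 : θ' ≫ θ = 𝟙 W := CartesianMonoidalCategory.hom_ext _ _ (by simp [θ, θ', W])
    (by simp [θ, θ', W, MonObj.comp_mul, GrpObj.comp_inv])
  haveI : IsIso θ := ⟨θ', h1, h2⟩
  haveI : IsIso θ.left := ((Over.forget _).mapIso (asIso θ)).isIso_hom
  have hgen : GeneralizingMap (snd o H).left := by
    haveI : Flat (snd o H).left := MorphismProperty.pullback_snd (P := @Flat) o.hom H.hom (flat_over_field o)
    exact Flat.generalizingMap _
  obtain ⟨ζ, hζ⟩ := exists_isMaxPt (X := ↥W.left)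
  let q := W.left.fromSpecResidueField ζ ≫ W.hom
  let ι' : Over.mk q ⟶ W := Over.homMk (W.left.fromSpecResidueField ζ) rfl
  have hι : ∀ z, ι'.left z = ζ := fun z => Scheme.fromSpecResidueField_apply _ _
  refine ⟨W.left.residueField ζ, inferInstance, q, ι' ≫ snd o H, ι' ≫ θ ≫ snd o H, fun z => ?_, fun z => ?_,
    fun z => ?_⟩
  · show IsMaxPt ((snd o H).left (ι'.left z))
    rw [hι]
    exact hζ.image_of_generalizing _ hgen
  · show IsMaxPt ((snd o H).left (θ.left (ι'.left z)))
    rw [hι]
    exact (hζ.image_of_iso θ.left).image_of_generalizing _ hgen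
  · have : (ι' ≫ snd o H) * (ι' ≫ θ ≫ snd o H) = (ι' ≫ fst o H) ≫ hp := by
      simp [θ, W, MonObj.comp_mul, GrpObj.comp_inv]
    rw [this, Over.comp_left, Over.comp_left, Scheme.Hom.comp_apply, Scheme.Hom.comp_apply]
    exact H.left.fromSpecResidueField_apply h ((fst o H).left (ι'.left z))

/-- Two points with values in field extensions, through a quasi-compact dominant morphism. -/
theorem exists_lift {G H : Over (Spec (CommRingCat.of k))} (f : G ⟶ H) [QuasiCompact f.left] (hf : DenseRange f.left)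
    {K : Type u} [Field K] {q : Spec (CommRingCat.of K) ⟶ Spec (CommRingCat.of k)} (a b : Over.mk q ⟶ H)
    (ha : ∀ z, IsMaxPt (a.left z)) (hb : ∀ z, IsMaxPt (b.left z)) :
    ∃ (L : Type u) (_ : Field L) (j : Spec (CommRingCat.of L) ⟶ Spec (CommRingCat.of K))
      (a' b' : Over.mk (j ≫ q) ⟶ G),
      a' ≫ f = (Over.homMk j : Over.mk (j ≫ q) ⟶ Over.mk q) ≫ a ∧
      b' ≫ f = (Over.homMk j : Over.mk (j ≫ q) ⟶ Over.mk q) ≫ b := by
  let z : Spec (CommRingCat.of K) := IsLocalRing.closedPoint K
  obtain ⟨g₁, hg₁⟩ := (ha z).mem_range f.left hf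
  obtain ⟨g₂, hg₂⟩ := (hb z).mem_range f.left hf
  obtain ⟨p₁, hp₁, -⟩ := Scheme.exists_preimage_of_isPullback (IsPullback.of_hasPullback a.left f.left) z g₁ hg₁.symm
  obtain ⟨p₂, hp₂, -⟩ := Scheme.exists_preimage_of_isPullback (IsPullback.of_hasPullback b.left f.left) z g₂ hg₂.symm
  obtain ⟨p, -, -⟩ := Scheme.exists_preimage_of_isPullback
    (IsPullback.of_hasPullback (pullback.fst a.left f.left) (pullback.fst b.left f.left)) p₁ p₂ (hp₁.trans hp₂.symm)
  let P := pullback (pullback.fst a.left f.left) (pullback.fst b.left f.left)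
  let r := P.fromSpecResidueField p
  let j : Spec (CommRingCat.of (P.residueField p)) ⟶ Spec (CommRingCat.of K) :=
    r ≫ pullback.fst _ _ ≫ pullback.fst a.left f.left
  have hj : j = r ≫ pullback.snd _ _ ≫ pullback.fst b.left f.left := congrArg (r ≫ ·) pullback.condition
  refine ⟨P.residueField p, inferInstance, j, Over.homMk (r ≫ pullback.fst _ _ ≫ pullback.snd a.left f.left) ?_,
    Over.homMk (r ≫ pullback.snd _ _ ≫ pullback.snd b.left f.left) ?_, ?_, ?_⟩
  · show (r ≫ _ ≫ _) ≫ G.hom = j ≫ q
    simp only [j, Category.assoc, ← Over.w f, ← pullback.condition_assoc, Over.w a]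
    rfl
  · show (r ≫ _ ≫ _) ≫ G.hom = j ≫ q
    simp only [hj, Category.assoc, ← Over.w f, ← pullback.condition_assoc, Over.w b]
    rfl
  · refine Over.OverMorphism.ext ?_
    show (r ≫ _ ≫ _) ≫ f.left = j ≫ a.left
    simp only [j, Category.assoc]
    rw [← pullback.condition (f := a.left) (g := f.left)]
  · refine Over.OverMorphism.ext ?_
    show (r ≫ _ ≫ _) ≫ f.left = j ≫ b.left
    simp only [hj, Category.assoc]
    rw [← pullback.condition (f := b.left) (g := f.left)]

variable {G H : Over (Spec (CommRingCat.of k))} [GrpObj G] [GrpObj H] (f : G ⟶ H) [IsMonHom f] [QuasiCompact f.left]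

theorem surjective_of_denseRange (hf : DenseRange f.left) : Surjective f.left := by
  refine ⟨fun h => ?_⟩
  obtain ⟨K, _, q, a, b, ha, hb, hab⟩ := exists_factor H h
  obtain ⟨L, _, j, a', b', h₁, h₂⟩ := exists_lift f hf a b ha hb
  let z : Spec (CommRingCat.of L) := IsLocalRing.closedPoint L
  refine ⟨(a' * b').left z, ?_⟩
  show ((a' * b') ≫ f).left z = h
  rw [MonObj.mul_comp, h₁, h₂, ← MonObj.comp_mul]
  exact hab _

/-- Locally at a point of the target, a flat morphism onto it which pulls the homomorphism back to a flat one. -/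
theorem exists_flat_cover [IsReduced H.left] (hf : DenseRange f.left) (h : H.left) :
    ∃ (T : Over (Spec (CommRingCat.of k))) (ψ : T ⟶ H), Flat ψ.left ∧ h ∈ Set.range ψ.left ∧
      Flat (pullback.fst ψ.left f.left) := by
  obtain ⟨K, _, q, a, b, ha, hb, hab⟩ := exists_factor H h
  obtain ⟨L, _, j, a', b', h₁, h₂⟩ := exists_lift f hf a b ha hb
  let A : Over (Spec (CommRingCat.of k)) := Over.mk (j ≫ q)
  let jo : A ⟶ Over.mk q := Over.homMk j
  let aH : A ⟶ H := jo ≫ a
  let bH : A ⟶ H := jo ≫ b
  let T := A ⊗ A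
  let ψ : T ⟶ H := (fst A A ≫ aH) * (snd A A ≫ bH)
  have haf : Flat aH.left := flat_of_isMaxPt (K := L) aH.left fun z => ha (j z)
  have hbf : Flat bH.left := flat_of_isMaxPt (K := L) bH.left fun z => hb (j z)
  have hψ : Flat ψ.left := by
    have e : ψ = (aH ⊗ₘ bH) ≫ lift (fst H H * snd H H) (𝟙 _ ≫ snd H H) ≫ fst H H := by
      simp [ψ, T, MonObj.comp_mul]
    let σ : H ⊗ H ⟶ H ⊗ H := lift (fst H H * snd H H) (𝟙 _ ≫ snd H H)
    let σ' : H ⊗ H ⟶ H ⊗ H := lift (fst H H * (snd H H)⁻¹) (snd H H)
    haveI : IsIso σ := ⟨σ', CartesianMonoidalCategory.hom_ext _ _ (by simp [σ, σ', MonObj.comp_mul, GrpObj.comp_inv])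
      (by simp [σ, σ']), CartesianMonoidalCategory.hom_ext _ _ (by simp [σ, σ', MonObj.comp_mul, GrpObj.comp_inv])
      (by simp [σ, σ'])⟩
    haveI : IsIso σ.left := ((Over.forget _).mapIso (asIso σ)).isIso_hom
    haveI : Flat (aH ⊗ₘ bH).left := GrpSchLib.RankOne.property_tensorHom aH bH @Flat haf hbf
    haveI : Flat (fst H H).left := MorphismProperty.pullback_fst (P := @Flat) H.hom H.hom (flat_over_field H)
    rw [e, Over.comp_left, Over.comp_left]
    exact inferInstanceAs (Flat ((aH ⊗ₘ bH).left ≫ σ.left ≫ (fst H H).left))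
  let z : ↥A.left := IsLocalRing.closedPoint L
  refine ⟨T, ψ, hψ, ⟨(lift (𝟙 A) (𝟙 A)).left z, ?_⟩, ?_⟩
  · show (lift (𝟙 A) (𝟙 A) ≫ ψ).left z = h
    rw [show lift (𝟙 A) (𝟙 A) ≫ ψ = jo ≫ (a * b) by simp [ψ, aH, bH, MonObj.comp_mul]]
    exact hab _
  -- pulled back along `ψ`, the homomorphism is a translate of a base change to a field
  let w : T ⟶ H := snd A A ≫ bH
  let E := pullback w.left f.left
  let E' : Over (Spec (CommRingCat.of k)) := Over.mk (pullback.fst w.left f.left ≫ T.hom)
  let tE : E' ⟶ T := Over.homMk (pullback.fst w.left f.left) rfl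
  let yE : E' ⟶ G := Over.homMk (pullback.snd w.left f.left) (by
    show pullback.snd w.left f.left ≫ G.hom = pullback.fst w.left f.left ≫ T.hom
    rw [← Over.w f, ← pullback.condition_assoc, Over.w w])
  have hsq : tE ≫ w = yE ≫ f := Over.OverMorphism.ext pullback.condition
  let y' : E' ⟶ G := (tE ≫ fst A A ≫ a') * yE
  have hy' : tE ≫ ψ = y' ≫ f := by
    simp only [y', ψ, MonObj.mul_comp, MonObj.comp_mul, Category.assoc, h₁]
    rw [show tE ≫ snd A A ≫ bH = yE ≫ f from hsq]
  let P : Over (Spec (CommRingCat.of k)) := Over.mk (pullback.fst ψ.left f.left ≫ T.hom)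
  let tP : P ⟶ T := Over.homMk (pullback.fst ψ.left f.left) rfl
  let yP : P ⟶ G := Over.homMk (pullback.snd ψ.left f.left) (by
    show pullback.snd ψ.left f.left ≫ G.hom = pullback.fst ψ.left f.left ≫ T.hom
    rw [← Over.w f, ← pullback.condition_assoc, Over.w ψ])
  have hsqP : tP ≫ ψ = yP ≫ f := Over.OverMorphism.ext pullback.condition
  let y₀ : P ⟶ G := (tP ≫ fst A A ≫ a')⁻¹ * yP
  have hy₀ : tP ≫ w = y₀ ≫ f := by
    simp only [y₀, MonObj.mul_comp, GrpObj.inv_comp, Category.assoc, h₁, ← hsqP, ψ, w, MonObj.comp_mul]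
    show tP ≫ snd A A ≫ bH = (tP ≫ fst A A ≫ aH)⁻¹ * ((tP ≫ fst A A ≫ aH) * (tP ≫ snd A A ≫ bH))
    rw [inv_mul_cancel_left]
  let u : P.left ⟶ E := pullback.lift tP.left y₀.left (congrArg CommaMorphism.left hy₀)
  let v : E ⟶ P.left := pullback.lift tE.left y'.left (congrArg CommaMorphism.left hy')
  let uO : P ⟶ E' := Over.homMk u (by
    show u ≫ pullback.fst w.left f.left ≫ T.hom = _
    rw [pullback.lift_fst_assoc]; exact Over.w tP)
  let vO : E' ⟶ P := Over.homMk v (by
    show v ≫ pullback.fst ψ.left f.left ≫ T.hom = _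
    rw [pullback.lift_fst_assoc]; rfl)
  have e1 : uO ≫ tE = tP := Over.OverMorphism.ext (pullback.lift_fst _ _ _)
  have e2 : uO ≫ yE = y₀ := Over.OverMorphism.ext (pullback.lift_snd _ _ _)
  have e3 : vO ≫ tP = tE := Over.OverMorphism.ext (pullback.lift_fst _ _ _)
  have e4 : vO ≫ yP = y' := Over.OverMorphism.ext (pullback.lift_snd _ _ _)
  have huv : u ≫ v = 𝟙 _ := by
    have : uO ≫ y' = yP := by
      simp only [y', MonObj.comp_mul, ← Category.assoc, e1, e2]
      simp only [y₀, Category.assoc, mul_inv_cancel_left]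
    apply pullback.hom_ext
    · rw [Category.id_comp, Category.assoc, pullback.lift_fst]
      exact congrArg CommaMorphism.left e1
    · rw [Category.id_comp, Category.assoc, pullback.lift_snd]
      exact congrArg CommaMorphism.left this
  have hvu : v ≫ u = 𝟙 _ := by
    have : vO ≫ y₀ = yE := by
      simp only [y₀, MonObj.comp_mul, GrpObj.comp_inv, ← Category.assoc, e3, e4]
      simp only [y', Category.assoc, inv_mul_cancel_left]
    apply pullback.hom_ext
    · rw [Category.id_comp, Category.assoc, pullback.lift_fst]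
      exact congrArg CommaMorphism.left e3
    · rw [Category.id_comp, Category.assoc, pullback.lift_snd]
      exact congrArg CommaMorphism.left this
  haveI : IsIso u := ⟨v, huv, hvu⟩
  haveI : Flat (pullback.fst w.left f.left) := by
    let l : E ⟶ pullback bH.left f.left := pullback.lift (pullback.fst w.left f.left ≫ (snd A A).left)
      (pullback.snd w.left f.left) (by rw [Category.assoc]; exact pullback.condition)
    have hl : IsPullback l (pullback.fst w.left f.left) (pullback.fst bH.left f.left) (snd A A).left := by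
      refine IsPullback.of_right (h₁₂ := pullback.snd bH.left f.left) (h₂₂ := bH.left) (v₁₃ := f.left) ?_
        (pullback.lift_fst _ _ _) (IsPullback.of_hasPullback bH.left f.left).flip
      rw [pullback.lift_snd]
      exact (IsPullback.of_hasPullback w.left f.left).flip
    haveI : Flat (pullback.fst bH.left f.left) := by
      let e : pullback bH.left f.left ⟶ Spec (CommRingCat.of L) := pullback.fst bH.left f.left
      exact (inferInstance : Flat e)
    exact MorphismProperty.of_isPullback hl ‹Flat (pullback.fst bH.left f.left)›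
  have hu : pullback.fst ψ.left f.left = u ≫ pullback.fst w.left f.left := (pullback.lift_fst _ _ _).symm
  rw [hu]
  infer_instance

theorem flat_of_denseRange [IsReduced H.left] (hf : DenseRange f.left) : Flat f.left := by
  choose T ψ hψ hh hfl using exists_flat_cover f hf
  let P : H.left → Scheme.{u} := fun h => pullback (ψ h).left f.left
  let p : ∐ P ⟶ G.left := Sigma.desc fun h => pullback.snd (ψ h).left f.left
  haveI : Flat p := by
    refine (IsZariskiLocalAtSource.iff_of_openCover (P := @Flat) (sigmaOpenCover P)).mpr fun h => ?_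
    show Flat (Sigma.ι P h ≫ p)
    rw [Sigma.ι_desc]
    exact MorphismProperty.pullback_snd (P := @Flat) _ _ (hψ h)
  haveI : Surjective p := by
    refine ⟨fun y => ?_⟩
    obtain ⟨t, ht⟩ := hh (f.left y)
    obtain ⟨x, -, hx⟩ := Scheme.exists_preimage_of_isPullback
      (IsPullback.of_hasPullback (ψ (f.left y)).left f.left) t y ht
    refine ⟨Sigma.ι P (f.left y) x, ?_⟩
    rw [← Scheme.Hom.comp_apply, Sigma.ι_desc]
    exact hx
  haveI : Flat (p ≫ f.left) := by
    refine (IsZariskiLocalAtSource.iff_of_openCover (P := @Flat) (sigmaOpenCover P)).mpr fun h => ?_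
    show Flat (Sigma.ι P h ≫ p ≫ f.left)
    rw [Sigma.ι_desc_assoc, ← pullback.condition]
    haveI := hfl h
    haveI := hψ h
    exact MorphismProperty.comp_mem @Flat _ _ (hfl h) (hψ h)
  exact GrpSchLib.RankOne.flat_of_comp p f.left

end Groth.Agent.DomHom
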