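import Mathlib.AlgebraicGeometry.Morphisms.QuasiCompact
import Mathlib.AlgebraicGeometry.Morphisms.Flat
import Mathlib.AlgebraicGeometry.Morphisms.UniversallyOpen
import Mathlib.RingTheory.Ideal.MinimalPrime.Localization

/-!
# Maximal points of schemes
-/

universe u

open CategoryTheory AlgebraicGeometry TopologicalSpace

set_option autoImplicit false

namespace Groth.Agent.DomHom

/-- Points without proper generization. -/
def IsMaxPt {X : Type*} [TopologicalSpace X] (x : X) : Prop := ∀ y, y ⤳ x → y = x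

theorem exists_isMaxPt {X : Type*} [TopologicalSpace X] [T0Space X] [QuasiSober X] [Nonempty X] :
    ∃ x : X, IsMaxPt x := by
  obtain ⟨x₀⟩ := ‹Nonempty X›
  let c : irreducibleComponents X :=
    ⟨irreducibleComponent x₀, irreducibleComponent_mem_irreducibleComponents x₀⟩
  let x := genericPoints.ofComponent c
  refine ⟨x.1, fun y hy => ?_⟩
  have hmax : Maximal IsIrreducible (closure {x.1}) := x.2
  have h1 : closure {x.1} ⊆ closure {y} :=
    closure_minimal (Set.singleton_subset_iff.mpr hy.mem_closure) isClosed_closure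
  have h2 := hmax.eq_of_subset isIrreducible_singleton.closure h1
  exact (inseparable_iff_closure_eq.mpr h2.symm).eq

theorem IsMaxPt.image_of_generalizing {X Y : Scheme.{u}} (f : X ⟶ Y) (hf : GeneralizingMap f) {x : X}
    (hx : IsMaxPt x) : IsMaxPt (f x) := by
  intro y hy
  obtain ⟨x', hx', rfl⟩ := hf hy
  rw [hx x' hx']

theorem IsMaxPt.image_of_iso {X Y : Scheme.{u}} (f : X ⟶ Y) [IsIso f] {x : X} (hx : IsMaxPt x) :
    IsMaxPt (f x) :=
  hx.image_of_generalizing f (Flat.generalizingMap f)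

/-- Every maximal point lies in the range of a quasi-compact dominant morphism. -/
theorem IsMaxPt.mem_range {X Y : Scheme.{u}} (f : X ⟶ Y) [QuasiCompact f] (hf : DenseRange f) {y : Y}
    (hy : IsMaxPt y) : y ∈ Set.range f := by
  obtain ⟨U, hU, hyU, -⟩ := exists_isAffineOpen_mem_and_subset (show y ∈ (⊤ : Y.Opens) from trivial)
  obtain ⟨R, g, hg⟩ := isCompact_iff_exists.mp (f.isCompact_preimage hU.isCompact :
    IsCompact ((f ⁻¹ᵁ U : X.Opens) : Set X))
  have hr : Set.range (g ≫ f) ⊆ Set.range hU.fromSpec := by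
    rw [IsAffineOpen.range_fromSpec]
    rintro _ ⟨r, rfl⟩
    exact (hg.le ⟨r, rfl⟩ : g r ∈ f ⁻¹ᵁ U)
  obtain ⟨φ, hφ⟩ := Spec.map_surjective (IsOpenImmersion.lift hU.fromSpec (g ≫ f) hr)
  have hφf : Spec.map φ ≫ hU.fromSpec = g ≫ f := by rw [hφ, IsOpenImmersion.lift_fac]
  let p := hU.primeIdealOf ⟨y, hyU⟩
  have hp : hU.fromSpec p = y := hU.fromSpec_primeIdealOf _
  have hdense : DenseRange (PrimeSpectrum.comap φ.hom) := by
    rw [DenseRange, dense_iff_inter_open]
    intro W hW ⟨q, hq⟩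
    obtain ⟨_, ⟨x, hx, rfl⟩, ⟨z, hz⟩⟩ := hf.inter_open_nonempty (hU.fromSpec '' W)
      (hU.fromSpec.isOpenEmbedding.isOpenMap _ hW) ⟨_, q, hq, rfl⟩
    have hzU : z ∈ f ⁻¹ᵁ U := by
      show f z ∈ U
      rw [hz, ← SetLike.mem_coe, ← hU.range_fromSpec]; exact ⟨x, rfl⟩
    obtain ⟨r, rfl⟩ := hg.ge hzU
    refine ⟨_, ?_, r, rfl⟩
    have : hU.fromSpec (Spec.map φ r) = hU.fromSpec x := by
      rw [← Scheme.Hom.comp_apply, hφf, Scheme.Hom.comp_apply, hz]
    have h' := hU.fromSpec.isOpenEmbedding.injective this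
    show Spec.map φ r ∈ W
    rw [h']; exact hx
  have hmin : p.asIdeal ∈ ((⊥ : Ideal R).comap φ.hom).minimalPrimes := by
    refine ⟨⟨inferInstance, ?_⟩, fun q ⟨hq, _⟩ hqp => ?_⟩
    · rw [← RingHom.ker_eq_comap_bot]
      have h0 := hdense.closure_range
      rw [PrimeSpectrum.closure_range_comap] at h0
      exact (Set.eq_univ_iff_forall.mp h0 p)
    · have hs : (⟨q, hq⟩ : PrimeSpectrum Γ(Y, U)) ⤳ p := (PrimeSpectrum.le_iff_specializes _ _).mp hqp
      have := hy _ (hp ▸ hs.map hU.fromSpec.continuous)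
      rw [← hp] at this
      exact (congrArg PrimeSpectrum.asIdeal (hU.fromSpec.isOpenEmbedding.injective this)).ge
  obtain ⟨r, hr', -, hrp⟩ := Ideal.exists_comap_eq_of_mem_minimalPrimes φ.hom p.asIdeal hmin
  refine ⟨g ⟨r, hr'⟩, ?_⟩
  rw [← Scheme.Hom.comp_apply, ← hφf, Scheme.Hom.comp_apply]
  rw [show Spec.map φ (⟨r, hr'⟩ : PrimeSpectrum R) = p from PrimeSpectrum.ext hrp, hp]

/-- A morphism from the spectrum of a field onto a maximal point of a reduced scheme is flat. -/
theorem flat_of_isMaxPt {H : Scheme.{u}} [IsReduced H] {K : Type u} [Field K]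
    (q : Spec (CommRingCat.of K) ⟶ H) (hq : ∀ z, IsMaxPt (q z)) : Flat q := by
  refine Flat.of_stalkMap q fun z => ?_
  let R := H.presheaf.stalk (q z)
  haveI : Subsingleton (PrimeSpectrum R) := by
    refine ⟨fun a b => ?_⟩
    apply (H.fromSpecStalk (q z)).isEmbedding.injective
    have ha : H.fromSpecStalk (q z) a ⤳ q z := by
      show H.fromSpecStalk (q z) a ∈ {y | y ⤳ q z}
      rw [← Scheme.range_fromSpecStalk]; exact ⟨a, rfl⟩
    have hb : H.fromSpecStalk (q z) b ⤳ q z := by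
      show H.fromSpecStalk (q z) b ∈ {y | y ⤳ q z}
      rw [← Scheme.range_fromSpecStalk]; exact ⟨b, rfl⟩
    rw [hq z _ ha, hq z _ hb]
  haveI : Ring.KrullDimLE 0 R := ⟨Order.krullDim_nonpos_of_subsingleton⟩
  have hR : IsField R := Ring.KrullDimLE.isField_of_isReduced
  letI := hR.toField
  letI : Algebra R ((Spec (CommRingCat.of K)).presheaf.stalk z) := (q.stalkMap z).hom.toAlgebra
  exact (inferInstance : Module.Flat R ((Spec (CommRingCat.of K)).presheaf.stalk z))

end Groth.Agent.DomHom
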