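import Groth.Agent.DomHom.Main
import Groth.Agent.GrpSchLib.SmallestSubgroup
import Groth.Agent.GrpSchLib.SmoothReduced
import Groth.Agent.GrpSchLib.AntiAffineHom
import Mathlib.Tactic.Group

/-!
# The subgroup generated by two smooth subgroups one normalizing the other
-/

universe u

open CategoryTheory Limits AlgebraicGeometry MonoidalCategory CartesianMonoidalCategory MonObj GrpObj

set_option autoImplicit false

namespace Groth.Agent.DomHom

variable {k : Type u} [Field k] {G A B : Over (Spec (CommRingCat.of k))} [GrpObj G] [GrpObj A] [GrpObj B]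
  (a : A ⟶ G) [IsMonHom a] (b : B ⟶ G) [IsMonHom b]

/-- Points of `A · B` form a subgroup. -/
theorem exists_pointSubgroup
    (hN : ∀ (T : Over (Spec (CommRingCat.of k))) (y : T ⟶ B) (x : T ⟶ A),
      ∃ x' : T ⟶ A, (y ≫ b) * (x ≫ a) * (y ≫ b)⁻¹ = x' ≫ a)
    (T : Over (Spec (CommRingCat.of k))) :
    ∃ P : Subgroup (T ⟶ G), (P : Set (T ⟶ G)) = Set.range fun w : T ⟶ A ⊗ B => w ≫ (a ⊗ₘ b) ≫ μ[G] := by
  have key : ∀ (x : T ⟶ A) (y : T ⟶ B), lift x y ≫ (a ⊗ₘ b) ≫ μ[G] = (x ≫ a) * (y ≫ b) := fun x y => by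
    rw [lift_map_assoc, ← Hom.mul_def]
  have hw : ∀ w : T ⟶ A ⊗ B, w ≫ (a ⊗ₘ b) ≫ μ[G] = ((w ≫ fst A B) ≫ a) * ((w ≫ snd A B) ≫ b) := fun w => by
    rw [← key]
    congr 1
    ext <;> simp
  refine ⟨{ carrier := Set.range fun w : T ⟶ A ⊗ B => w ≫ (a ⊗ₘ b) ≫ μ[G]
            mul_mem' := ?_
            one_mem' := ⟨lift 1 1, by dsimp only; rw [key, MonObj.one_comp, MonObj.one_comp, _root_.mul_one]⟩
            inv_mem' := ?_ }, rfl⟩
  · rintro _ _ ⟨w₁, rfl⟩ ⟨w₂, rfl⟩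
    obtain ⟨x', hx⟩ := hN T (w₁ ≫ snd A B) (w₂ ≫ fst A B)
    refine ⟨lift ((w₁ ≫ fst A B) * x') ((w₁ ≫ snd A B) * (w₂ ≫ snd A B)), ?_⟩
    dsimp only
    rw [key, hw, hw, MonObj.mul_comp, MonObj.mul_comp, ← hx]
    group
  · rintro _ ⟨w, rfl⟩
    obtain ⟨x', hx⟩ := hN T (w ≫ snd A B)⁻¹ (w ≫ fst A B)⁻¹
    refine ⟨lift x' (w ≫ snd A B)⁻¹, ?_⟩
    dsimp only
    rw [key, hw, ← hx, GrpObj.inv_comp, GrpObj.inv_comp]
    group

theorem range_product [LocallyOfFiniteType G.hom] [Smooth A.hom] [QuasiCompact A.hom] [Smooth B.hom] [QuasiCompact B.hom]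
    (hN : ∀ (T : Over (Spec (CommRingCat.of k))) (y : T ⟶ B) (x : T ⟶ A),
      ∃ x' : T ⟶ A, (y ≫ b) * (x ≫ a) * (y ≫ b)⁻¹ = x' ≫ a)
    {Γ : Over (Spec (CommRingCat.of k))} [GrpObj Γ] (i : Γ ⟶ G) [IsMonHom i] [IsClosedImmersion i.left]
    (ha : ∃ a' : A ⟶ Γ, a' ≫ i = a) (hb : ∃ b' : B ⟶ Γ, b' ≫ i = b)
    (hmin : ∀ (Γ' : Over (Spec (CommRingCat.of k))) (_ : GrpObj Γ') (i' : Γ' ⟶ G), IsMonHom i' →
      IsClosedImmersion i'.left → (∃ a'' : A ⟶ Γ', a'' ≫ i' = a) → (∃ b'' : B ⟶ Γ', b'' ≫ i' = b) →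
      ∃ j : Γ ⟶ Γ', j ≫ i' = i) :
    IsReduced Γ.left ∧ Set.range i.left = Set.range ((a ⊗ₘ b) ≫ μ[G]).left := by
  let X := A ⊗ B
  let m : X ⟶ G := (a ⊗ₘ b) ≫ μ[G]
  haveI : GeometricallyReduced A.hom := GrpSchLib.geometricallyReduced_of_smooth A.hom
  haveI : GeometricallyReduced B.hom := GrpSchLib.geometricallyReduced_of_smooth B.hom
  haveI : GeometricallyReduced X.hom := Groth.Agent.S4629.result A.hom B.hom
  obtain ⟨Γ₀, _, i₀, hi₀, hi₀c, ⟨m₀, hm₀⟩, hgr, hmin₀, hr₀⟩ :=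
    GrpSchLib.SmallestSubgroup.exists_smallest_range G X m
  haveI := hi₀
  haveI := hi₀c
  haveI := hgr
  haveI : Mono i₀ := (Over.forget _).mono_of_mono_map (inferInstanceAs (Mono i₀.left))
  haveI : Mono i := (Over.forget _).mono_of_mono_map (inferInstanceAs (Mono i.left))
  obtain ⟨a', ha'⟩ := ha
  obtain ⟨b', hb'⟩ := hb
  obtain ⟨j, hj⟩ := hmin Γ₀ inferInstance i₀ hi₀ hi₀c
    ⟨lift (𝟙 A) 1 ≫ m₀, by
      rw [Category.assoc, hm₀]
      show lift (𝟙 A) 1 ≫ (a ⊗ₘ b) ≫ μ[G] = a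
      rw [lift_map_assoc, ← Hom.mul_def, MonObj.one_comp, _root_.mul_one, Category.id_comp]⟩
    ⟨lift 1 (𝟙 B) ≫ m₀, by
      rw [Category.assoc, hm₀]
      show lift 1 (𝟙 B) ≫ (a ⊗ₘ b) ≫ μ[G] = b
      rw [lift_map_assoc, ← Hom.mul_def, MonObj.one_comp, _root_.one_mul, Category.id_comp]⟩
  obtain ⟨j₀, hj₀⟩ := hmin₀ Γ inferInstance i inferInstance inferInstance
    ⟨(fst A B ≫ a') * (snd A B ≫ b'), by
      rw [MonObj.mul_comp, Category.assoc, Category.assoc, ha', hb']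
      show _ = (a ⊗ₘ b) ≫ μ[G]
      rw [Hom.mul_def]
      congr 1⟩
  haveI : IsIso j := ⟨j₀, by rw [← cancel_mono i, Category.assoc, hj₀, hj, Category.id_comp],
    by rw [← cancel_mono i₀, Category.assoc, hj, hj₀, Category.id_comp]⟩
  haveI : IsIso j.left := ((Over.forget _).mapIso (asIso j)).isIso_hom
  haveI : IsReduced Γ₀.left := GrpSchLib.SmallestSubgroup.isReduced_of_geometricallyReduced Γ₀.hom
  refine ⟨isReduced_of_isOpenImmersion j.left, ?_⟩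
  have hrange : Set.range i.left = Set.range i₀.left := by
    rw [← hj, Over.comp_left, Scheme.Hom.comp_base, TopCat.coe_comp, Set.range_comp, j.left.surjective.range_eq,
      Set.image_univ]
  rw [hrange]
  refine Set.Subset.antisymm ?_ (by
    rintro _ ⟨p, rfl⟩
    exact ⟨m₀.left p, congrArg (fun q : X ⟶ G => q.left p) hm₀⟩)
  -- the image is dense
  have hd : DenseRange m₀.left := by
    intro pt
    rw [i₀.left.isClosedEmbedding.isEmbedding.closure_eq_preimage_closure_image, Set.mem_preimage, ← Set.range_comp,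
      ← TopCat.coe_comp, ← Scheme.Hom.comp_base, ← Over.comp_left, hm₀]
    refine closure_mono ?_ (hr₀ ⟨pt, rfl⟩)
    rintro _ ⟨T, g, t, hg, rfl⟩
    obtain ⟨P, hP⟩ := exists_pointSubgroup a b hN T
    have : g ∈ P := (Subgroup.closure_le P).mpr (by
      rintro _ ⟨x, rfl⟩
      rw [hP]
      exact ⟨x, rfl⟩) hg
    rw [← SetLike.mem_coe, hP] at this
    obtain ⟨w, rfl⟩ := this
    exact ⟨w.left t, rfl⟩
  haveI : QuasiCompact X.hom :=
    inferInstanceAs (QuasiCompact (pullback.fst A.hom B.hom ≫ A.hom))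
  haveI : QuasiCompact m₀.left := by
    haveI := GrpSchLib.AntiAffine.isSeparated_grp Γ₀
    haveI : QuasiCompact (m₀.left ≫ Γ₀.hom) := by rw [Over.w m₀]; infer_instance
    exact QuasiCompact.of_comp m₀.left Γ₀.hom
  rintro _ ⟨pt, rfl⟩
  obtain ⟨K, _, q, α, β, hα, hβ, hαβ⟩ := exists_factor Γ₀ pt
  obtain ⟨L, _, l, α', β', h₁, h₂⟩ := exists_lift m₀ hd α β hα hβ
  obtain ⟨P, hP⟩ := exists_pointSubgroup a b hN (Over.mk (l ≫ q))
  have hw : (α' ≫ m) * (β' ≫ m) ∈ P :=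
    P.mul_mem (by rw [← SetLike.mem_coe, hP]; exact ⟨α', rfl⟩) (by rw [← SetLike.mem_coe, hP]; exact ⟨β', rfl⟩)
  rw [← SetLike.mem_coe, hP] at hw
  obtain ⟨w, hw⟩ := hw
  let z : Spec (CommRingCat.of L) := IsLocalRing.closedPoint L
  refine ⟨w.left z, ?_⟩
  show (w ≫ m).left z = _
  rw [show w ≫ m = _ from hw, ← hm₀, ← Category.assoc, ← Category.assoc, h₁, h₂, ← MonObj.mul_comp, ← MonObj.comp_mul,
    Over.comp_left, Scheme.Hom.comp_apply, Over.comp_left, Scheme.Hom.comp_apply]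
  exact congrArg i₀.left (hαβ _)

end Groth.Agent.DomHom
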